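import Cfsg.Agent.Lib.Helper9.TCData.ONC1.Main

set_option autoImplicit false
set_option maxRecDepth 1000000

namespace Cfsg.Agent.Helper9.TCData.ONC1
open Cfsg.Agent.Helper9.TC2

theorem e0_8 : allRange 20757 2812 (fun u => chkE tab 0 u) = true := by decide +kernel

theorem e0_9 : allRange 23569 2537 (fun u => chkE tab 0 u) = true := by decide +kernel

theorem e1_0 : allRange 0 2507 (fun u => chkE tab 1 u) = true := by decide +kernel

theorem e1_1 : allRange 2507 2544 (fun u => chkE tab 1 u) = true := by decide +kernel

theorem e1_2 : allRange 5051 2643 (fun u => chkE tab 1 u) = true := by decide +kernel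

theorem e1_3 : allRange 7694 2612 (fun u => chkE tab 1 u) = true := by decide +kernel

theorem e1_4 : allRange 10306 2586 (fun u => chkE tab 1 u) = true := by decide +kernel

theorem e1_5 : allRange 12892 2749 (fun u => chkE tab 1 u) = true := by decide +kernel


end Cfsg.Agent.Helper9.TCData.ONC1
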