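import Cfsg.Agent.Lib.Helper9.TCData.ONC1.Main

set_option autoImplicit false
set_option maxRecDepth 1000000

namespace Cfsg.Agent.Helper9.TCData.ONC1
open Cfsg.Agent.Helper9.TC2

theorem e1_6 : allRange 15641 2710 (fun u => chkE tab 1 u) = true := by decide +kernel

theorem e1_7 : allRange 18351 2857 (fun u => chkE tab 1 u) = true := by decide +kernel

theorem e1_8 : allRange 21208 2945 (fun u => chkE tab 1 u) = true := by decide +kernel

theorem e1_9 : allRange 24153 1953 (fun u => chkE tab 1 u) = true := by decide +kernel

theorem e2_0 : allRange 0 2586 (fun u => chkE tab 2 u) = true := by decide +kernel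

theorem e2_1 : allRange 2586 2587 (fun u => chkE tab 2 u) = true := by decide +kernel

theorem e2_2 : allRange 5173 2557 (fun u => chkE tab 2 u) = true := by decide +kernel

theorem e2_3 : allRange 7730 2649 (fun u => chkE tab 2 u) = true := by decide +kernel


end Cfsg.Agent.Helper9.TCData.ONC1
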