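import Cfsg.Agent.Lib.Helper9.TCData.ONC1.Main

set_option autoImplicit false
set_option maxRecDepth 1000000

namespace Cfsg.Agent.Helper9.TCData.ONC1
open Cfsg.Agent.Helper9.TC2

theorem m1_16 : allRange 16624 1039 (fun u => chkM1 tab u) = true := by decide +kernel

theorem m1_17 : allRange 17663 1039 (fun u => chkM1 tab u) = true := by decide +kernel

theorem m1_18 : allRange 18702 1039 (fun u => chkM1 tab u) = true := by decide +kernel

theorem m1_19 : allRange 19741 1039 (fun u => chkM1 tab u) = true := by decide +kernel

theorem m1_20 : allRange 20780 1039 (fun u => chkM1 tab u) = true := by decide +kernel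

theorem m1_21 : allRange 21819 1039 (fun u => chkM1 tab u) = true := by decide +kernel

theorem m1_22 : allRange 22858 1039 (fun u => chkM1 tab u) = true := by decide +kernel

theorem m1_23 : allRange 23897 1039 (fun u => chkM1 tab u) = true := by decide +kernel


end Cfsg.Agent.Helper9.TCData.ONC1
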