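import Cfsg.Agent.Lib.Helper9.TCData.ONC1.Main

set_option autoImplicit false
set_option maxRecDepth 1000000

namespace Cfsg.Agent.Helper9.TCData.ONC1
open Cfsg.Agent.Helper9.TC2

theorem m2_39 : allRange 5811 149 (fun u => chkFix tab mwordsA u) = true := by decide +kernel

theorem m2_40 : allRange 5960 149 (fun u => chkFix tab mwordsA u) = true := by decide +kernel

theorem m2_41 : allRange 6109 149 (fun u => chkFix tab mwordsA u) = true := by decide +kernel

theorem m2_42 : allRange 6258 149 (fun u => chkFix tab mwordsA u) = true := by decide +kernel

theorem m2_43 : allRange 6407 149 (fun u => chkFix tab mwordsA u) = true := by decide +kernel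

theorem m2_44 : allRange 6556 149 (fun u => chkFix tab mwordsA u) = true := by decide +kernel

theorem m2_45 : allRange 6705 149 (fun u => chkFix tab mwordsA u) = true := by decide +kernel

theorem m2_46 : allRange 6854 149 (fun u => chkFix tab mwordsA u) = true := by decide +kernel


end Cfsg.Agent.Helper9.TCData.ONC1
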