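import Cfsg.Agent.Lib.Helper9.TCData.ONC1.Main

set_option autoImplicit false
set_option maxRecDepth 1000000

namespace Cfsg.Agent.Helper9.TCData.ONC1
open Cfsg.Agent.Helper9.TC2

theorem m2_55 : allRange 8195 149 (fun u => chkFix tab mwordsA u) = true := by decide +kernel

theorem m2_56 : allRange 8344 149 (fun u => chkFix tab mwordsA u) = true := by decide +kernel

theorem m2_57 : allRange 8493 149 (fun u => chkFix tab mwordsA u) = true := by decide +kernel

theorem m2_58 : allRange 8642 149 (fun u => chkFix tab mwordsA u) = true := by decide +kernel

theorem m2_59 : allRange 8791 149 (fun u => chkFix tab mwordsA u) = true := by decide +kernel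

theorem m2_60 : allRange 8940 149 (fun u => chkFix tab mwordsA u) = true := by decide +kernel

theorem m2_61 : allRange 9089 149 (fun u => chkFix tab mwordsA u) = true := by decide +kernel

theorem m2_62 : allRange 9238 149 (fun u => chkFix tab mwordsA u) = true := by decide +kernel


end Cfsg.Agent.Helper9.TCData.ONC1
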