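import Cfsg.Agent.Lib.Helper9.TCData.ONC1.Main

set_option autoImplicit false
set_option maxRecDepth 1000000

namespace Cfsg.Agent.Helper9.TCData.ONC1
open Cfsg.Agent.Helper9.TC2

theorem e2_4 : allRange 10379 2511 (fun u => chkE tab 2 u) = true := by decide +kernel

theorem e2_5 : allRange 12890 2659 (fun u => chkE tab 2 u) = true := by decide +kernel

theorem e2_6 : allRange 15549 2538 (fun u => chkE tab 2 u) = true := by decide +kernel

theorem e2_7 : allRange 18087 2656 (fun u => chkE tab 2 u) = true := by decide +kernel

theorem e2_8 : allRange 20743 2721 (fun u => chkE tab 2 u) = true := by decide +kernel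

theorem e2_9 : allRange 23464 2642 (fun u => chkE tab 2 u) = true := by decide +kernel

theorem e3_0 : allRange 0 3187 (fun u => chkE tab 3 u) = true := by decide +kernel

theorem e3_1 : allRange 3187 3163 (fun u => chkE tab 3 u) = true := by decide +kernel


end Cfsg.Agent.Helper9.TCData.ONC1
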