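import Cfsg.Agent.Lib.Helper9.TCData.ONC1.Main

set_option autoImplicit false
set_option maxRecDepth 1000000

namespace Cfsg.Agent.Helper9.TCData.ONC1
open Cfsg.Agent.Helper9.TC2

theorem m2_71 : allRange 10579 149 (fun u => chkFix tab mwordsA u) = true := by decide +kernel

theorem m2_72 : allRange 10728 149 (fun u => chkFix tab mwordsA u) = true := by decide +kernel

theorem m2_73 : allRange 10877 149 (fun u => chkFix tab mwordsA u) = true := by decide +kernel

theorem m2_74 : allRange 11026 149 (fun u => chkFix tab mwordsA u) = true := by decide +kernel

theorem m2_75 : allRange 11175 149 (fun u => chkFix tab mwordsA u) = true := by decide +kernel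

theorem m2_76 : allRange 11324 149 (fun u => chkFix tab mwordsA u) = true := by decide +kernel

theorem m2_77 : allRange 11473 149 (fun u => chkFix tab mwordsA u) = true := by decide +kernel

theorem m2_78 : allRange 11622 149 (fun u => chkFix tab mwordsA u) = true := by decide +kernel


end Cfsg.Agent.Helper9.TCData.ONC1
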