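import Cfsg.Agent.Lib.Helper9.TCData.ONC1.Main

set_option autoImplicit false
set_option maxRecDepth 1000000

namespace Cfsg.Agent.Helper9.TCData.ONC1
open Cfsg.Agent.Helper9.TC2

theorem m2_95 : allRange 14155 149 (fun u => chkFix tab mwordsA u) = true := by decide +kernel

theorem m2_96 : allRange 14304 149 (fun u => chkFix tab mwordsA u) = true := by decide +kernel

theorem m2_97 : allRange 14453 149 (fun u => chkFix tab mwordsA u) = true := by decide +kernel

theorem m2_98 : allRange 14602 149 (fun u => chkFix tab mwordsA u) = true := by decide +kernel

theorem m2_99 : allRange 14751 149 (fun u => chkFix tab mwordsA u) = true := by decide +kernel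

theorem m2_100 : allRange 14900 149 (fun u => chkFix tab mwordsA u) = true := by decide +kernel

theorem m2_101 : allRange 15049 149 (fun u => chkFix tab mwordsA u) = true := by decide +kernel

theorem m2_102 : allRange 15198 149 (fun u => chkFix tab mwordsA u) = true := by decide +kernel


end Cfsg.Agent.Helper9.TCData.ONC1
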