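import Cfsg.Agent.Lib.Helper9.TCData.ONC1.Main

set_option autoImplicit false
set_option maxRecDepth 1000000

namespace Cfsg.Agent.Helper9.TCData.ONC1
open Cfsg.Agent.Helper9.TC2

theorem e3_2 : allRange 6350 3148 (fun u => chkE tab 3 u) = true := by decide +kernel

theorem e3_3 : allRange 9498 2894 (fun u => chkE tab 3 u) = true := by decide +kernel

theorem e3_4 : allRange 12392 2998 (fun u => chkE tab 3 u) = true := by decide +kernel

theorem e3_5 : allRange 15390 2846 (fun u => chkE tab 3 u) = true := by decide +kernel

theorem e3_6 : allRange 18236 3054 (fun u => chkE tab 3 u) = true := by decide +kernel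

theorem e3_7 : allRange 21290 2954 (fun u => chkE tab 3 u) = true := by decide +kernel

theorem e3_8 : allRange 24244 1862 (fun u => chkE tab 3 u) = true := by decide +kernel

theorem e4_0 : allRange 0 3526 (fun u => chkE tab 4 u) = true := by decide +kernel


end Cfsg.Agent.Helper9.TCData.ONC1
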