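import Cfsg.Agent.Lib.Helper9.TCData.ONC1.Main

set_option autoImplicit false
set_option maxRecDepth 1000000

namespace Cfsg.Agent.Helper9.TCData.ONC1
open Cfsg.Agent.Helper9.TC2

theorem m2_159 : allRange 23691 149 (fun u => chkFix tab mwordsA u) = true := by decide +kernel

theorem m2_160 : allRange 23840 149 (fun u => chkFix tab mwordsA u) = true := by decide +kernel

theorem m2_161 : allRange 23989 149 (fun u => chkFix tab mwordsA u) = true := by decide +kernel

theorem m2_162 : allRange 24138 149 (fun u => chkFix tab mwordsA u) = true := by decide +kernel

theorem m2_163 : allRange 24287 149 (fun u => chkFix tab mwordsA u) = true := by decide +kernel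

theorem m2_164 : allRange 24436 149 (fun u => chkFix tab mwordsA u) = true := by decide +kernel

theorem m2_165 : allRange 24585 149 (fun u => chkFix tab mwordsA u) = true := by decide +kernel

theorem m2_166 : allRange 24734 149 (fun u => chkFix tab mwordsA u) = true := by decide +kernel


end Cfsg.Agent.Helper9.TCData.ONC1
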