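import Cfsg.Agent.Lib.Helper9.TCData.ONC1.S0
import Cfsg.Agent.Lib.Helper9.TCData.ONC1.S1
import Cfsg.Agent.Lib.Helper9.TCData.ONC1.S2
import Cfsg.Agent.Lib.Helper9.TCData.ONC1.S3
import Cfsg.Agent.Lib.Helper9.TCData.ONC1.S4
import Cfsg.Agent.Lib.Helper9.TCData.ONC1.S5
import Cfsg.Agent.Lib.Helper9.TCData.ONC1.S6
import Cfsg.Agent.Lib.Helper9.TCData.ONC1.S7
import Cfsg.Agent.Lib.Helper9.TCData.ONC1.S8
import Cfsg.Agent.Lib.Helper9.TCData.ONC1.S9
import Cfsg.Agent.Lib.Helper9.TCData.ONC1.S10
import Cfsg.Agent.Lib.Helper9.TCData.ONC1.S11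
import Cfsg.Agent.Lib.Helper9.TCData.ONC1.S12
import Cfsg.Agent.Lib.Helper9.TCData.ONC1.S13
import Cfsg.Agent.Lib.Helper9.TCData.ONC1.S14
import Cfsg.Agent.Lib.Helper9.TCData.ONC1.S15
import Cfsg.Agent.Lib.Helper9.TCData.ONC1.S16
import Cfsg.Agent.Lib.Helper9.TCData.ONC1.S17
import Cfsg.Agent.Lib.Helper9.TCData.ONC1.S18
import Cfsg.Agent.Lib.Helper9.TCData.ONC1.S19
import Cfsg.Agent.Lib.Helper9.TCData.ONC1.S20
import Cfsg.Agent.Lib.Helper9.TCData.ONC1.S21
import Cfsg.Agent.Lib.Helper9.TCData.ONC1.S22
import Cfsg.Agent.Lib.Helper9.TCData.ONC1.S23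
import Cfsg.Agent.Lib.Helper9.TCData.ONC1.S24
import Cfsg.Agent.Lib.Helper9.TCData.ONC1.S25
import Cfsg.Agent.Lib.Helper9.TCData.ONC1.S26
import Cfsg.Agent.Lib.Helper9.TCData.ONC1.S27
import Cfsg.Agent.Lib.Helper9.TCData.ONC1.S28
import Cfsg.Agent.Lib.Helper9.TCData.ONC1.S29
import Cfsg.Agent.Lib.Helper9.TCData.ONC1.S30
import Cfsg.Agent.Lib.Helper9.TCData.ONC1.S31
import Cfsg.Agent.Lib.Helper9.TCData.ONC1.S32
import Cfsg.Agent.Lib.Helper9.TCData.ONC1.S33
import Cfsg.Agent.Lib.Helper9.TCData.ONC1.S34
import Cfsg.Agent.Lib.Helper9.TCData.ONC1.S35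
import Cfsg.Agent.Lib.Helper9.TCData.ONC1.S36
import Cfsg.Agent.Lib.Helper9.TCData.ONC1.S37
import Cfsg.Agent.Lib.Helper9.TCData.ONC1.S38
import Cfsg.Agent.Lib.Helper9.TCData.ONC1.S39
import Cfsg.Agent.Lib.Helper9.TCData.ONC1.S40
import Cfsg.Agent.Lib.Helper9.TCData.ONC1.S41
import Cfsg.Agent.Lib.Helper9.TCData.ONC1.S42
import Cfsg.Agent.Lib.Helper9.TCData.ONC1.S43

set_option autoImplicit false
set_option maxRecDepth 1000000

namespace Cfsg.Agent.Helper9.TCData.ONC1
open Cfsg.Agent.Helper9.TC2


theorem hE0 : ∀ u < 26106, chkE tab 0 u = true := by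
  have h0 : ∀ u < 0, (fun u => chkE tab 0 u) u = true := range_zero
  have h1 : ∀ u < 2421, (fun u => chkE tab 0 u) u = true := ext_range (a := 0) (len := 2421) h0 e0_0
  have h2 : ∀ u < 4927, (fun u => chkE tab 0 u) u = true := ext_range (a := 2421) (len := 2506) h1 e0_1
  have h3 : ∀ u < 7435, (fun u => chkE tab 0 u) u = true := ext_range (a := 4927) (len := 2508) h2 e0_2
  have h4 : ∀ u < 9986, (fun u => chkE tab 0 u) u = true := ext_range (a := 7435) (len := 2551) h3 e0_3
  have h5 : ∀ u < 12537, (fun u => chkE tab 0 u) u = true := ext_range (a := 9986) (len := 2551) h4 e0_4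
  have h6 : ∀ u < 15229, (fun u => chkE tab 0 u) u = true := ext_range (a := 12537) (len := 2692) h5 e0_5
  have h7 : ∀ u < 17917, (fun u => chkE tab 0 u) u = true := ext_range (a := 15229) (len := 2688) h6 e0_6
  have h8 : ∀ u < 20757, (fun u => chkE tab 0 u) u = true := ext_range (a := 17917) (len := 2840) h7 e0_7
  have h9 : ∀ u < 23569, (fun u => chkE tab 0 u) u = true := ext_range (a := 20757) (len := 2812) h8 e0_8
  have h10 : ∀ u < 26106, (fun u => chkE tab 0 u) u = true := ext_range (a := 23569) (len := 2537) h9 e0_9
  exact h10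

theorem hE1 : ∀ u < 26106, chkE tab 1 u = true := by
  have h0 : ∀ u < 0, (fun u => chkE tab 1 u) u = true := range_zero
  have h1 : ∀ u < 2507, (fun u => chkE tab 1 u) u = true := ext_range (a := 0) (len := 2507) h0 e1_0
  have h2 : ∀ u < 5051, (fun u => chkE tab 1 u) u = true := ext_range (a := 2507) (len := 2544) h1 e1_1
  have h3 : ∀ u < 7694, (fun u => chkE tab 1 u) u = true := ext_range (a := 5051) (len := 2643) h2 e1_2
  have h4 : ∀ u < 10306, (fun u => chkE tab 1 u) u = true := ext_range (a := 7694) (len := 2612) h3 e1_3
  have h5 : ∀ u < 12892, (fun u => chkE tab 1 u) u = true := ext_range (a := 10306) (len := 2586) h4 e1_4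
  have h6 : ∀ u < 15641, (fun u => chkE tab 1 u) u = true := ext_range (a := 12892) (len := 2749) h5 e1_5
  have h7 : ∀ u < 18351, (fun u => chkE tab 1 u) u = true := ext_range (a := 15641) (len := 2710) h6 e1_6
  have h8 : ∀ u < 21208, (fun u => chkE tab 1 u) u = true := ext_range (a := 18351) (len := 2857) h7 e1_7
  have h9 : ∀ u < 24153, (fun u => chkE tab 1 u) u = true := ext_range (a := 21208) (len := 2945) h8 e1_8
  have h10 : ∀ u < 26106, (fun u => chkE tab 1 u) u = true := ext_range (a := 24153) (len := 1953) h9 e1_9
  exact h10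

theorem hE2 : ∀ u < 26106, chkE tab 2 u = true := by
  have h0 : ∀ u < 0, (fun u => chkE tab 2 u) u = true := range_zero
  have h1 : ∀ u < 2586, (fun u => chkE tab 2 u) u = true := ext_range (a := 0) (len := 2586) h0 e2_0
  have h2 : ∀ u < 5173, (fun u => chkE tab 2 u) u = true := ext_range (a := 2586) (len := 2587) h1 e2_1
  have h3 : ∀ u < 7730, (fun u => chkE tab 2 u) u = true := ext_range (a := 5173) (len := 2557) h2 e2_2
  have h4 : ∀ u < 10379, (fun u => chkE tab 2 u) u = true := ext_range (a := 7730) (len := 2649) h3 e2_3
  have h5 : ∀ u < 12890, (fun u => chkE tab 2 u) u = true := ext_range (a := 10379) (len := 2511) h4 e2_4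
  have h6 : ∀ u < 15549, (fun u => chkE tab 2 u) u = true := ext_range (a := 12890) (len := 2659) h5 e2_5
  have h7 : ∀ u < 18087, (fun u => chkE tab 2 u) u = true := ext_range (a := 15549) (len := 2538) h6 e2_6
  have h8 : ∀ u < 20743, (fun u => chkE tab 2 u) u = true := ext_range (a := 18087) (len := 2656) h7 e2_7
  have h9 : ∀ u < 23464, (fun u => chkE tab 2 u) u = true := ext_range (a := 20743) (len := 2721) h8 e2_8
  have h10 : ∀ u < 26106, (fun u => chkE tab 2 u) u = true := ext_range (a := 23464) (len := 2642) h9 e2_9
  exact h10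

theorem hE3 : ∀ u < 26106, chkE tab 3 u = true := by
  have h0 : ∀ u < 0, (fun u => chkE tab 3 u) u = true := range_zero
  have h1 : ∀ u < 3187, (fun u => chkE tab 3 u) u = true := ext_range (a := 0) (len := 3187) h0 e3_0
  have h2 : ∀ u < 6350, (fun u => chkE tab 3 u) u = true := ext_range (a := 3187) (len := 3163) h1 e3_1
  have h3 : ∀ u < 9498, (fun u => chkE tab 3 u) u = true := ext_range (a := 6350) (len := 3148) h2 e3_2
  have h4 : ∀ u < 12392, (fun u => chkE tab 3 u) u = true := ext_range (a := 9498) (len := 2894) h3 e3_3
  have h5 : ∀ u < 15390, (fun u => chkE tab 3 u) u = true := ext_range (a := 12392) (len := 2998) h4 e3_4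
  have h6 : ∀ u < 18236, (fun u => chkE tab 3 u) u = true := ext_range (a := 15390) (len := 2846) h5 e3_5
  have h7 : ∀ u < 21290, (fun u => chkE tab 3 u) u = true := ext_range (a := 18236) (len := 3054) h6 e3_6
  have h8 : ∀ u < 24244, (fun u => chkE tab 3 u) u = true := ext_range (a := 21290) (len := 2954) h7 e3_7
  have h9 : ∀ u < 26106, (fun u => chkE tab 3 u) u = true := ext_range (a := 24244) (len := 1862) h8 e3_8
  exact h9

theorem hE4 : ∀ u < 26106, chkE tab 4 u = true := by
  have h0 : ∀ u < 0, (fun u => chkE tab 4 u) u = true := range_zero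
  have h1 : ∀ u < 3526, (fun u => chkE tab 4 u) u = true := ext_range (a := 0) (len := 3526) h0 e4_0
  have h2 : ∀ u < 6821, (fun u => chkE tab 4 u) u = true := ext_range (a := 3526) (len := 3295) h1 e4_1
  have h3 : ∀ u < 10139, (fun u => chkE tab 4 u) u = true := ext_range (a := 6821) (len := 3318) h2 e4_2
  have h4 : ∀ u < 13504, (fun u => chkE tab 4 u) u = true := ext_range (a := 10139) (len := 3365) h3 e4_3
  have h5 : ∀ u < 16954, (fun u => chkE tab 4 u) u = true := ext_range (a := 13504) (len := 3450) h4 e4_4
  have h6 : ∀ u < 20189, (fun u => chkE tab 4 u) u = true := ext_range (a := 16954) (len := 3235) h5 e4_5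
  have h7 : ∀ u < 23256, (fun u => chkE tab 4 u) u = true := ext_range (a := 20189) (len := 3067) h6 e4_6
  have h8 : ∀ u < 26106, (fun u => chkE tab 4 u) u = true := ext_range (a := 23256) (len := 2850) h7 e4_7
  exact h8

theorem hE5 : ∀ u < 26106, chkE tab 5 u = true := by
  have h0 : ∀ u < 0, (fun u => chkE tab 5 u) u = true := range_zero
  have h1 : ∀ u < 3412, (fun u => chkE tab 5 u) u = true := ext_range (a := 0) (len := 3412) h0 e5_0
  have h2 : ∀ u < 6994, (fun u => chkE tab 5 u) u = true := ext_range (a := 3412) (len := 3582) h1 e5_1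
  have h3 : ∀ u < 10438, (fun u => chkE tab 5 u) u = true := ext_range (a := 6994) (len := 3444) h2 e5_2
  have h4 : ∀ u < 13706, (fun u => chkE tab 5 u) u = true := ext_range (a := 10438) (len := 3268) h3 e5_3
  have h5 : ∀ u < 17032, (fun u => chkE tab 5 u) u = true := ext_range (a := 13706) (len := 3326) h4 e5_4
  have h6 : ∀ u < 20358, (fun u => chkE tab 5 u) u = true := ext_range (a := 17032) (len := 3326) h5 e5_5
  have h7 : ∀ u < 23726, (fun u => chkE tab 5 u) u = true := ext_range (a := 20358) (len := 3368) h6 e5_6
  have h8 : ∀ u < 26106, (fun u => chkE tab 5 u) u = true := ext_range (a := 23726) (len := 2380) h7 e5_7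
  exact h8

theorem hL : ∀ u < 26106, chkL tab u = true := by
  have h0 : ∀ u < 0, (fun u => chkL tab u) u = true := range_zero
  have h1 : ∀ u < 26106, (fun u => chkL tab u) u = true := ext_range (a := 0) (len := 26106) h0 l_0
  exact h1

theorem hF : ∀ u < 26068, chkFin tab u = true := by
  have h0 : ∀ u < 0, (fun u => chkFin tab u) u = true := range_zero
  have h1 : ∀ u < 400, (fun u => chkFin tab u) u = true := ext_range (a := 0) (len := 400) h0 f_0
  have h2 : ∀ u < 800, (fun u => chkFin tab u) u = true := ext_range (a := 400) (len := 400) h1 f_1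
  have h3 : ∀ u < 1200, (fun u => chkFin tab u) u = true := ext_range (a := 800) (len := 400) h2 f_2
  have h4 : ∀ u < 1600, (fun u => chkFin tab u) u = true := ext_range (a := 1200) (len := 400) h3 f_3
  have h5 : ∀ u < 2000, (fun u => chkFin tab u) u = true := ext_range (a := 1600) (len := 400) h4 f_4
  have h6 : ∀ u < 2400, (fun u => chkFin tab u) u = true := ext_range (a := 2000) (len := 400) h5 f_5
  have h7 : ∀ u < 2800, (fun u => chkFin tab u) u = true := ext_range (a := 2400) (len := 400) h6 f_6
  have h8 : ∀ u < 3200, (fun u => chkFin tab u) u = true := ext_range (a := 2800) (len := 400) h7 f_7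
  have h9 : ∀ u < 3600, (fun u => chkFin tab u) u = true := ext_range (a := 3200) (len := 400) h8 f_8
  have h10 : ∀ u < 4000, (fun u => chkFin tab u) u = true := ext_range (a := 3600) (len := 400) h9 f_9
  have h11 : ∀ u < 4400, (fun u => chkFin tab u) u = true := ext_range (a := 4000) (len := 400) h10 f_10
  have h12 : ∀ u < 4800, (fun u => chkFin tab u) u = true := ext_range (a := 4400) (len := 400) h11 f_11
  have h13 : ∀ u < 5200, (fun u => chkFin tab u) u = true := ext_range (a := 4800) (len := 400) h12 f_12
  have h14 : ∀ u < 5600, (fun u => chkFin tab u) u = true := ext_range (a := 5200) (len := 400) h13 f_13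
  have h15 : ∀ u < 6000, (fun u => chkFin tab u) u = true := ext_range (a := 5600) (len := 400) h14 f_14
  have h16 : ∀ u < 6400, (fun u => chkFin tab u) u = true := ext_range (a := 6000) (len := 400) h15 f_15
  have h17 : ∀ u < 6800, (fun u => chkFin tab u) u = true := ext_range (a := 6400) (len := 400) h16 f_16
  have h18 : ∀ u < 7200, (fun u => chkFin tab u) u = true := ext_range (a := 6800) (len := 400) h17 f_17
  have h19 : ∀ u < 7600, (fun u => chkFin tab u) u = true := ext_range (a := 7200) (len := 400) h18 f_18
  have h20 : ∀ u < 8000, (fun u => chkFin tab u) u = true := ext_range (a := 7600) (len := 400) h19 f_19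
  have h21 : ∀ u < 8400, (fun u => chkFin tab u) u = true := ext_range (a := 8000) (len := 400) h20 f_20
  have h22 : ∀ u < 8800, (fun u => chkFin tab u) u = true := ext_range (a := 8400) (len := 400) h21 f_21
  have h23 : ∀ u < 9200, (fun u => chkFin tab u) u = true := ext_range (a := 8800) (len := 400) h22 f_22
  have h24 : ∀ u < 9600, (fun u => chkFin tab u) u = true := ext_range (a := 9200) (len := 400) h23 f_23
  have h25 : ∀ u < 10000, (fun u => chkFin tab u) u = true := ext_range (a := 9600) (len := 400) h24 f_24
  have h26 : ∀ u < 10400, (fun u => chkFin tab u) u = true := ext_range (a := 10000) (len := 400) h25 f_25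
  have h27 : ∀ u < 10800, (fun u => chkFin tab u) u = true := ext_range (a := 10400) (len := 400) h26 f_26
  have h28 : ∀ u < 11200, (fun u => chkFin tab u) u = true := ext_range (a := 10800) (len := 400) h27 f_27
  have h29 : ∀ u < 11600, (fun u => chkFin tab u) u = true := ext_range (a := 11200) (len := 400) h28 f_28
  have h30 : ∀ u < 12000, (fun u => chkFin tab u) u = true := ext_range (a := 11600) (len := 400) h29 f_29
  have h31 : ∀ u < 12400, (fun u => chkFin tab u) u = true := ext_range (a := 12000) (len := 400) h30 f_30
  have h32 : ∀ u < 12800, (fun u => chkFin tab u) u = true := ext_range (a := 12400) (len := 400) h31 f_31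
  have h33 : ∀ u < 13200, (fun u => chkFin tab u) u = true := ext_range (a := 12800) (len := 400) h32 f_32
  have h34 : ∀ u < 13600, (fun u => chkFin tab u) u = true := ext_range (a := 13200) (len := 400) h33 f_33
  have h35 : ∀ u < 14000, (fun u => chkFin tab u) u = true := ext_range (a := 13600) (len := 400) h34 f_34
  have h36 : ∀ u < 14400, (fun u => chkFin tab u) u = true := ext_range (a := 14000) (len := 400) h35 f_35
  have h37 : ∀ u < 14800, (fun u => chkFin tab u) u = true := ext_range (a := 14400) (len := 400) h36 f_36
  have h38 : ∀ u < 15200, (fun u => chkFin tab u) u = true := ext_range (a := 14800) (len := 400) h37 f_37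
  have h39 : ∀ u < 15600, (fun u => chkFin tab u) u = true := ext_range (a := 15200) (len := 400) h38 f_38
  have h40 : ∀ u < 16000, (fun u => chkFin tab u) u = true := ext_range (a := 15600) (len := 400) h39 f_39
  have h41 : ∀ u < 16400, (fun u => chkFin tab u) u = true := ext_range (a := 16000) (len := 400) h40 f_40
  have h42 : ∀ u < 16800, (fun u => chkFin tab u) u = true := ext_range (a := 16400) (len := 400) h41 f_41
  have h43 : ∀ u < 17200, (fun u => chkFin tab u) u = true := ext_range (a := 16800) (len := 400) h42 f_42
  have h44 : ∀ u < 17600, (fun u => chkFin tab u) u = true := ext_range (a := 17200) (len := 400) h43 f_43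
  have h45 : ∀ u < 18000, (fun u => chkFin tab u) u = true := ext_range (a := 17600) (len := 400) h44 f_44
  have h46 : ∀ u < 18400, (fun u => chkFin tab u) u = true := ext_range (a := 18000) (len := 400) h45 f_45
  have h47 : ∀ u < 18800, (fun u => chkFin tab u) u = true := ext_range (a := 18400) (len := 400) h46 f_46
  have h48 : ∀ u < 19200, (fun u => chkFin tab u) u = true := ext_range (a := 18800) (len := 400) h47 f_47
  have h49 : ∀ u < 19600, (fun u => chkFin tab u) u = true := ext_range (a := 19200) (len := 400) h48 f_48
  have h50 : ∀ u < 20000, (fun u => chkFin tab u) u = true := ext_range (a := 19600) (len := 400) h49 f_49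
  have h51 : ∀ u < 20400, (fun u => chkFin tab u) u = true := ext_range (a := 20000) (len := 400) h50 f_50
  have h52 : ∀ u < 20800, (fun u => chkFin tab u) u = true := ext_range (a := 20400) (len := 400) h51 f_51
  have h53 : ∀ u < 21200, (fun u => chkFin tab u) u = true := ext_range (a := 20800) (len := 400) h52 f_52
  have h54 : ∀ u < 21600, (fun u => chkFin tab u) u = true := ext_range (a := 21200) (len := 400) h53 f_53
  have h55 : ∀ u < 22000, (fun u => chkFin tab u) u = true := ext_range (a := 21600) (len := 400) h54 f_54
  have h56 : ∀ u < 22400, (fun u => chkFin tab u) u = true := ext_range (a := 22000) (len := 400) h55 f_55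
  have h57 : ∀ u < 22800, (fun u => chkFin tab u) u = true := ext_range (a := 22400) (len := 400) h56 f_56
  have h58 : ∀ u < 23200, (fun u => chkFin tab u) u = true := ext_range (a := 22800) (len := 400) h57 f_57
  have h59 : ∀ u < 23600, (fun u => chkFin tab u) u = true := ext_range (a := 23200) (len := 400) h58 f_58
  have h60 : ∀ u < 24000, (fun u => chkFin tab u) u = true := ext_range (a := 23600) (len := 400) h59 f_59
  have h61 : ∀ u < 24400, (fun u => chkFin tab u) u = true := ext_range (a := 24000) (len := 400) h60 f_60
  have h62 : ∀ u < 24800, (fun u => chkFin tab u) u = true := ext_range (a := 24400) (len := 400) h61 f_61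
  have h63 : ∀ u < 25200, (fun u => chkFin tab u) u = true := ext_range (a := 24800) (len := 400) h62 f_62
  have h64 : ∀ u < 25600, (fun u => chkFin tab u) u = true := ext_range (a := 25200) (len := 400) h63 f_63
  have h65 : ∀ u < 26000, (fun u => chkFin tab u) u = true := ext_range (a := 25600) (len := 400) h64 f_64
  have h66 : ∀ u < 26068, (fun u => chkFin tab u) u = true := ext_range (a := 26000) (len := 68) h65 f_65
  exact h66

theorem hC : ∀ u < 26106, chkCls tab u = true := by
  have h0 : ∀ u < 0, (fun u => chkCls tab u) u = true := range_zero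
  have h1 : ∀ u < 2667, (fun u => chkCls tab u) u = true := ext_range (a := 0) (len := 2667) h0 c_0
  have h2 : ∀ u < 5334, (fun u => chkCls tab u) u = true := ext_range (a := 2667) (len := 2667) h1 c_1
  have h3 : ∀ u < 8001, (fun u => chkCls tab u) u = true := ext_range (a := 5334) (len := 2667) h2 c_2
  have h4 : ∀ u < 10668, (fun u => chkCls tab u) u = true := ext_range (a := 8001) (len := 2667) h3 c_3
  have h5 : ∀ u < 13335, (fun u => chkCls tab u) u = true := ext_range (a := 10668) (len := 2667) h4 c_4
  have h6 : ∀ u < 16002, (fun u => chkCls tab u) u = true := ext_range (a := 13335) (len := 2667) h5 c_5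
  have h7 : ∀ u < 18669, (fun u => chkCls tab u) u = true := ext_range (a := 16002) (len := 2667) h6 c_6
  have h8 : ∀ u < 21336, (fun u => chkCls tab u) u = true := ext_range (a := 18669) (len := 2667) h7 c_7
  have h9 : ∀ u < 24003, (fun u => chkCls tab u) u = true := ext_range (a := 21336) (len := 2667) h8 c_8
  have h10 : ∀ u < 26106, (fun u => chkCls tab u) u = true := ext_range (a := 24003) (len := 2103) h9 c_9
  exact h10

theorem hM1 : ∀ u < 26068, chkM1 tab u = true := by
  have h0 : ∀ u < 0, (fun u => chkM1 tab u) u = true := range_zero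
  have h1 : ∀ u < 1039, (fun u => chkM1 tab u) u = true := ext_range (a := 0) (len := 1039) h0 m1_0
  have h2 : ∀ u < 2078, (fun u => chkM1 tab u) u = true := ext_range (a := 1039) (len := 1039) h1 m1_1
  have h3 : ∀ u < 3117, (fun u => chkM1 tab u) u = true := ext_range (a := 2078) (len := 1039) h2 m1_2
  have h4 : ∀ u < 4156, (fun u => chkM1 tab u) u = true := ext_range (a := 3117) (len := 1039) h3 m1_3
  have h5 : ∀ u < 5195, (fun u => chkM1 tab u) u = true := ext_range (a := 4156) (len := 1039) h4 m1_4
  have h6 : ∀ u < 6234, (fun u => chkM1 tab u) u = true := ext_range (a := 5195) (len := 1039) h5 m1_5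
  have h7 : ∀ u < 7273, (fun u => chkM1 tab u) u = true := ext_range (a := 6234) (len := 1039) h6 m1_6
  have h8 : ∀ u < 8312, (fun u => chkM1 tab u) u = true := ext_range (a := 7273) (len := 1039) h7 m1_7
  have h9 : ∀ u < 9351, (fun u => chkM1 tab u) u = true := ext_range (a := 8312) (len := 1039) h8 m1_8
  have h10 : ∀ u < 10390, (fun u => chkM1 tab u) u = true := ext_range (a := 9351) (len := 1039) h9 m1_9
  have h11 : ∀ u < 11429, (fun u => chkM1 tab u) u = true := ext_range (a := 10390) (len := 1039) h10 m1_10
  have h12 : ∀ u < 12468, (fun u => chkM1 tab u) u = true := ext_range (a := 11429) (len := 1039) h11 m1_11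
  have h13 : ∀ u < 13507, (fun u => chkM1 tab u) u = true := ext_range (a := 12468) (len := 1039) h12 m1_12
  have h14 : ∀ u < 14546, (fun u => chkM1 tab u) u = true := ext_range (a := 13507) (len := 1039) h13 m1_13
  have h15 : ∀ u < 15585, (fun u => chkM1 tab u) u = true := ext_range (a := 14546) (len := 1039) h14 m1_14
  have h16 : ∀ u < 16624, (fun u => chkM1 tab u) u = true := ext_range (a := 15585) (len := 1039) h15 m1_15
  have h17 : ∀ u < 17663, (fun u => chkM1 tab u) u = true := ext_range (a := 16624) (len := 1039) h16 m1_16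
  have h18 : ∀ u < 18702, (fun u => chkM1 tab u) u = true := ext_range (a := 17663) (len := 1039) h17 m1_17
  have h19 : ∀ u < 19741, (fun u => chkM1 tab u) u = true := ext_range (a := 18702) (len := 1039) h18 m1_18
  have h20 : ∀ u < 20780, (fun u => chkM1 tab u) u = true := ext_range (a := 19741) (len := 1039) h19 m1_19
  have h21 : ∀ u < 21819, (fun u => chkM1 tab u) u = true := ext_range (a := 20780) (len := 1039) h20 m1_20
  have h22 : ∀ u < 22858, (fun u => chkM1 tab u) u = true := ext_range (a := 21819) (len := 1039) h21 m1_21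
  have h23 : ∀ u < 23897, (fun u => chkM1 tab u) u = true := ext_range (a := 22858) (len := 1039) h22 m1_22
  have h24 : ∀ u < 24936, (fun u => chkM1 tab u) u = true := ext_range (a := 23897) (len := 1039) h23 m1_23
  have h25 : ∀ u < 25975, (fun u => chkM1 tab u) u = true := ext_range (a := 24936) (len := 1039) h24 m1_24
  have h26 : ∀ u < 26068, (fun u => chkM1 tab u) u = true := ext_range (a := 25975) (len := 93) h25 m1_25
  exact h26

theorem hMA : ∀ u < 26068, chkAux tab aux u = true := by
  have h0 : ∀ u < 0, (fun u => chkAux tab aux u) u = true := range_zero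
  have h1 : ∀ u < 4000, (fun u => chkAux tab aux u) u = true := ext_range (a := 0) (len := 4000) h0 ma_0
  have h2 : ∀ u < 8000, (fun u => chkAux tab aux u) u = true := ext_range (a := 4000) (len := 4000) h1 ma_1
  have h3 : ∀ u < 12000, (fun u => chkAux tab aux u) u = true := ext_range (a := 8000) (len := 4000) h2 ma_2
  have h4 : ∀ u < 16000, (fun u => chkAux tab aux u) u = true := ext_range (a := 12000) (len := 4000) h3 ma_3
  have h5 : ∀ u < 20000, (fun u => chkAux tab aux u) u = true := ext_range (a := 16000) (len := 4000) h4 ma_4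
  have h6 : ∀ u < 24000, (fun u => chkAux tab aux u) u = true := ext_range (a := 20000) (len := 4000) h5 ma_5
  have h7 : ∀ u < 26068, (fun u => chkAux tab aux u) u = true := ext_range (a := 24000) (len := 2068) h6 ma_6
  exact h7

theorem hM2A : ∀ u < 26068, chkFix tab mwordsA u = true := by
  have h0 : ∀ u < 0, (fun u => chkFix tab mwordsA u) u = true := range_zero
  have h1 : ∀ u < 149, (fun u => chkFix tab mwordsA u) u = true := ext_range (a := 0) (len := 149) h0 m2_0
  have h2 : ∀ u < 298, (fun u => chkFix tab mwordsA u) u = true := ext_range (a := 149) (len := 149) h1 m2_1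
  have h3 : ∀ u < 447, (fun u => chkFix tab mwordsA u) u = true := ext_range (a := 298) (len := 149) h2 m2_2
  have h4 : ∀ u < 596, (fun u => chkFix tab mwordsA u) u = true := ext_range (a := 447) (len := 149) h3 m2_3
  have h5 : ∀ u < 745, (fun u => chkFix tab mwordsA u) u = true := ext_range (a := 596) (len := 149) h4 m2_4
  have h6 : ∀ u < 894, (fun u => chkFix tab mwordsA u) u = true := ext_range (a := 745) (len := 149) h5 m2_5
  have h7 : ∀ u < 1043, (fun u => chkFix tab mwordsA u) u = true := ext_range (a := 894) (len := 149) h6 m2_6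
  have h8 : ∀ u < 1192, (fun u => chkFix tab mwordsA u) u = true := ext_range (a := 1043) (len := 149) h7 m2_7
  have h9 : ∀ u < 1341, (fun u => chkFix tab mwordsA u) u = true := ext_range (a := 1192) (len := 149) h8 m2_8
  have h10 : ∀ u < 1490, (fun u => chkFix tab mwordsA u) u = true := ext_range (a := 1341) (len := 149) h9 m2_9
  have h11 : ∀ u < 1639, (fun u => chkFix tab mwordsA u) u = true := ext_range (a := 1490) (len := 149) h10 m2_10
  have h12 : ∀ u < 1788, (fun u => chkFix tab mwordsA u) u = true := ext_range (a := 1639) (len := 149) h11 m2_11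
  have h13 : ∀ u < 1937, (fun u => chkFix tab mwordsA u) u = true := ext_range (a := 1788) (len := 149) h12 m2_12
  have h14 : ∀ u < 2086, (fun u => chkFix tab mwordsA u) u = true := ext_range (a := 1937) (len := 149) h13 m2_13
  have h15 : ∀ u < 2235, (fun u => chkFix tab mwordsA u) u = true := ext_range (a := 2086) (len := 149) h14 m2_14
  have h16 : ∀ u < 2384, (fun u => chkFix tab mwordsA u) u = true := ext_range (a := 2235) (len := 149) h15 m2_15
  have h17 : ∀ u < 2533, (fun u => chkFix tab mwordsA u) u = true := ext_range (a := 2384) (len := 149) h16 m2_16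
  have h18 : ∀ u < 2682, (fun u => chkFix tab mwordsA u) u = true := ext_range (a := 2533) (len := 149) h17 m2_17
  have h19 : ∀ u < 2831, (fun u => chkFix tab mwordsA u) u = true := ext_range (a := 2682) (len := 149) h18 m2_18
  have h20 : ∀ u < 2980, (fun u => chkFix tab mwordsA u) u = true := ext_range (a := 2831) (len := 149) h19 m2_19
  have h21 : ∀ u < 3129, (fun u => chkFix tab mwordsA u) u = true := ext_range (a := 2980) (len := 149) h20 m2_20
  have h22 : ∀ u < 3278, (fun u => chkFix tab mwordsA u) u = true := ext_range (a := 3129) (len := 149) h21 m2_21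
  have h23 : ∀ u < 3427, (fun u => chkFix tab mwordsA u) u = true := ext_range (a := 3278) (len := 149) h22 m2_22
  have h24 : ∀ u < 3576, (fun u => chkFix tab mwordsA u) u = true := ext_range (a := 3427) (len := 149) h23 m2_23
  have h25 : ∀ u < 3725, (fun u => chkFix tab mwordsA u) u = true := ext_range (a := 3576) (len := 149) h24 m2_24
  have h26 : ∀ u < 3874, (fun u => chkFix tab mwordsA u) u = true := ext_range (a := 3725) (len := 149) h25 m2_25
  have h27 : ∀ u < 4023, (fun u => chkFix tab mwordsA u) u = true := ext_range (a := 3874) (len := 149) h26 m2_26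
  have h28 : ∀ u < 4172, (fun u => chkFix tab mwordsA u) u = true := ext_range (a := 4023) (len := 149) h27 m2_27
  have h29 : ∀ u < 4321, (fun u => chkFix tab mwordsA u) u = true := ext_range (a := 4172) (len := 149) h28 m2_28
  have h30 : ∀ u < 4470, (fun u => chkFix tab mwordsA u) u = true := ext_range (a := 4321) (len := 149) h29 m2_29
  have h31 : ∀ u < 4619, (fun u => chkFix tab mwordsA u) u = true := ext_range (a := 4470) (len := 149) h30 m2_30
  have h32 : ∀ u < 4768, (fun u => chkFix tab mwordsA u) u = true := ext_range (a := 4619) (len := 149) h31 m2_31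
  have h33 : ∀ u < 4917, (fun u => chkFix tab mwordsA u) u = true := ext_range (a := 4768) (len := 149) h32 m2_32
  have h34 : ∀ u < 5066, (fun u => chkFix tab mwordsA u) u = true := ext_range (a := 4917) (len := 149) h33 m2_33
  have h35 : ∀ u < 5215, (fun u => chkFix tab mwordsA u) u = true := ext_range (a := 5066) (len := 149) h34 m2_34
  have h36 : ∀ u < 5364, (fun u => chkFix tab mwordsA u) u = true := ext_range (a := 5215) (len := 149) h35 m2_35
  have h37 : ∀ u < 5513, (fun u => chkFix tab mwordsA u) u = true := ext_range (a := 5364) (len := 149) h36 m2_36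
  have h38 : ∀ u < 5662, (fun u => chkFix tab mwordsA u) u = true := ext_range (a := 5513) (len := 149) h37 m2_37
  have h39 : ∀ u < 5811, (fun u => chkFix tab mwordsA u) u = true := ext_range (a := 5662) (len := 149) h38 m2_38
  have h40 : ∀ u < 5960, (fun u => chkFix tab mwordsA u) u = true := ext_range (a := 5811) (len := 149) h39 m2_39
  have h41 : ∀ u < 6109, (fun u => chkFix tab mwordsA u) u = true := ext_range (a := 5960) (len := 149) h40 m2_40
  have h42 : ∀ u < 6258, (fun u => chkFix tab mwordsA u) u = true := ext_range (a := 6109) (len := 149) h41 m2_41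
  have h43 : ∀ u < 6407, (fun u => chkFix tab mwordsA u) u = true := ext_range (a := 6258) (len := 149) h42 m2_42
  have h44 : ∀ u < 6556, (fun u => chkFix tab mwordsA u) u = true := ext_range (a := 6407) (len := 149) h43 m2_43
  have h45 : ∀ u < 6705, (fun u => chkFix tab mwordsA u) u = true := ext_range (a := 6556) (len := 149) h44 m2_44
  have h46 : ∀ u < 6854, (fun u => chkFix tab mwordsA u) u = true := ext_range (a := 6705) (len := 149) h45 m2_45
  have h47 : ∀ u < 7003, (fun u => chkFix tab mwordsA u) u = true := ext_range (a := 6854) (len := 149) h46 m2_46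
  have h48 : ∀ u < 7152, (fun u => chkFix tab mwordsA u) u = true := ext_range (a := 7003) (len := 149) h47 m2_47
  have h49 : ∀ u < 7301, (fun u => chkFix tab mwordsA u) u = true := ext_range (a := 7152) (len := 149) h48 m2_48
  have h50 : ∀ u < 7450, (fun u => chkFix tab mwordsA u) u = true := ext_range (a := 7301) (len := 149) h49 m2_49
  have h51 : ∀ u < 7599, (fun u => chkFix tab mwordsA u) u = true := ext_range (a := 7450) (len := 149) h50 m2_50
  have h52 : ∀ u < 7748, (fun u => chkFix tab mwordsA u) u = true := ext_range (a := 7599) (len := 149) h51 m2_51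
  have h53 : ∀ u < 7897, (fun u => chkFix tab mwordsA u) u = true := ext_range (a := 7748) (len := 149) h52 m2_52
  have h54 : ∀ u < 8046, (fun u => chkFix tab mwordsA u) u = true := ext_range (a := 7897) (len := 149) h53 m2_53
  have h55 : ∀ u < 8195, (fun u => chkFix tab mwordsA u) u = true := ext_range (a := 8046) (len := 149) h54 m2_54
  have h56 : ∀ u < 8344, (fun u => chkFix tab mwordsA u) u = true := ext_range (a := 8195) (len := 149) h55 m2_55
  have h57 : ∀ u < 8493, (fun u => chkFix tab mwordsA u) u = true := ext_range (a := 8344) (len := 149) h56 m2_56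
  have h58 : ∀ u < 8642, (fun u => chkFix tab mwordsA u) u = true := ext_range (a := 8493) (len := 149) h57 m2_57
  have h59 : ∀ u < 8791, (fun u => chkFix tab mwordsA u) u = true := ext_range (a := 8642) (len := 149) h58 m2_58
  have h60 : ∀ u < 8940, (fun u => chkFix tab mwordsA u) u = true := ext_range (a := 8791) (len := 149) h59 m2_59
  have h61 : ∀ u < 9089, (fun u => chkFix tab mwordsA u) u = true := ext_range (a := 8940) (len := 149) h60 m2_60
  have h62 : ∀ u < 9238, (fun u => chkFix tab mwordsA u) u = true := ext_range (a := 9089) (len := 149) h61 m2_61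
  have h63 : ∀ u < 9387, (fun u => chkFix tab mwordsA u) u = true := ext_range (a := 9238) (len := 149) h62 m2_62
  have h64 : ∀ u < 9536, (fun u => chkFix tab mwordsA u) u = true := ext_range (a := 9387) (len := 149) h63 m2_63
  have h65 : ∀ u < 9685, (fun u => chkFix tab mwordsA u) u = true := ext_range (a := 9536) (len := 149) h64 m2_64
  have h66 : ∀ u < 9834, (fun u => chkFix tab mwordsA u) u = true := ext_range (a := 9685) (len := 149) h65 m2_65
  have h67 : ∀ u < 9983, (fun u => chkFix tab mwordsA u) u = true := ext_range (a := 9834) (len := 149) h66 m2_66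
  have h68 : ∀ u < 10132, (fun u => chkFix tab mwordsA u) u = true := ext_range (a := 9983) (len := 149) h67 m2_67
  have h69 : ∀ u < 10281, (fun u => chkFix tab mwordsA u) u = true := ext_range (a := 10132) (len := 149) h68 m2_68
  have h70 : ∀ u < 10430, (fun u => chkFix tab mwordsA u) u = true := ext_range (a := 10281) (len := 149) h69 m2_69
  have h71 : ∀ u < 10579, (fun u => chkFix tab mwordsA u) u = true := ext_range (a := 10430) (len := 149) h70 m2_70
  have h72 : ∀ u < 10728, (fun u => chkFix tab mwordsA u) u = true := ext_range (a := 10579) (len := 149) h71 m2_71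
  have h73 : ∀ u < 10877, (fun u => chkFix tab mwordsA u) u = true := ext_range (a := 10728) (len := 149) h72 m2_72
  have h74 : ∀ u < 11026, (fun u => chkFix tab mwordsA u) u = true := ext_range (a := 10877) (len := 149) h73 m2_73
  have h75 : ∀ u < 11175, (fun u => chkFix tab mwordsA u) u = true := ext_range (a := 11026) (len := 149) h74 m2_74
  have h76 : ∀ u < 11324, (fun u => chkFix tab mwordsA u) u = true := ext_range (a := 11175) (len := 149) h75 m2_75
  have h77 : ∀ u < 11473, (fun u => chkFix tab mwordsA u) u = true := ext_range (a := 11324) (len := 149) h76 m2_76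
  have h78 : ∀ u < 11622, (fun u => chkFix tab mwordsA u) u = true := ext_range (a := 11473) (len := 149) h77 m2_77
  have h79 : ∀ u < 11771, (fun u => chkFix tab mwordsA u) u = true := ext_range (a := 11622) (len := 149) h78 m2_78
  have h80 : ∀ u < 11920, (fun u => chkFix tab mwordsA u) u = true := ext_range (a := 11771) (len := 149) h79 m2_79
  have h81 : ∀ u < 12069, (fun u => chkFix tab mwordsA u) u = true := ext_range (a := 11920) (len := 149) h80 m2_80
  have h82 : ∀ u < 12218, (fun u => chkFix tab mwordsA u) u = true := ext_range (a := 12069) (len := 149) h81 m2_81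
  have h83 : ∀ u < 12367, (fun u => chkFix tab mwordsA u) u = true := ext_range (a := 12218) (len := 149) h82 m2_82
  have h84 : ∀ u < 12516, (fun u => chkFix tab mwordsA u) u = true := ext_range (a := 12367) (len := 149) h83 m2_83
  have h85 : ∀ u < 12665, (fun u => chkFix tab mwordsA u) u = true := ext_range (a := 12516) (len := 149) h84 m2_84
  have h86 : ∀ u < 12814, (fun u => chkFix tab mwordsA u) u = true := ext_range (a := 12665) (len := 149) h85 m2_85
  have h87 : ∀ u < 12963, (fun u => chkFix tab mwordsA u) u = true := ext_range (a := 12814) (len := 149) h86 m2_86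
  have h88 : ∀ u < 13112, (fun u => chkFix tab mwordsA u) u = true := ext_range (a := 12963) (len := 149) h87 m2_87
  have h89 : ∀ u < 13261, (fun u => chkFix tab mwordsA u) u = true := ext_range (a := 13112) (len := 149) h88 m2_88
  have h90 : ∀ u < 13410, (fun u => chkFix tab mwordsA u) u = true := ext_range (a := 13261) (len := 149) h89 m2_89
  have h91 : ∀ u < 13559, (fun u => chkFix tab mwordsA u) u = true := ext_range (a := 13410) (len := 149) h90 m2_90
  have h92 : ∀ u < 13708, (fun u => chkFix tab mwordsA u) u = true := ext_range (a := 13559) (len := 149) h91 m2_91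
  have h93 : ∀ u < 13857, (fun u => chkFix tab mwordsA u) u = true := ext_range (a := 13708) (len := 149) h92 m2_92
  have h94 : ∀ u < 14006, (fun u => chkFix tab mwordsA u) u = true := ext_range (a := 13857) (len := 149) h93 m2_93
  have h95 : ∀ u < 14155, (fun u => chkFix tab mwordsA u) u = true := ext_range (a := 14006) (len := 149) h94 m2_94
  have h96 : ∀ u < 14304, (fun u => chkFix tab mwordsA u) u = true := ext_range (a := 14155) (len := 149) h95 m2_95
  have h97 : ∀ u < 14453, (fun u => chkFix tab mwordsA u) u = true := ext_range (a := 14304) (len := 149) h96 m2_96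
  have h98 : ∀ u < 14602, (fun u => chkFix tab mwordsA u) u = true := ext_range (a := 14453) (len := 149) h97 m2_97
  have h99 : ∀ u < 14751, (fun u => chkFix tab mwordsA u) u = true := ext_range (a := 14602) (len := 149) h98 m2_98
  have h100 : ∀ u < 14900, (fun u => chkFix tab mwordsA u) u = true := ext_range (a := 14751) (len := 149) h99 m2_99
  have h101 : ∀ u < 15049, (fun u => chkFix tab mwordsA u) u = true := ext_range (a := 14900) (len := 149) h100 m2_100
  have h102 : ∀ u < 15198, (fun u => chkFix tab mwordsA u) u = true := ext_range (a := 15049) (len := 149) h101 m2_101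
  have h103 : ∀ u < 15347, (fun u => chkFix tab mwordsA u) u = true := ext_range (a := 15198) (len := 149) h102 m2_102
  have h104 : ∀ u < 15496, (fun u => chkFix tab mwordsA u) u = true := ext_range (a := 15347) (len := 149) h103 m2_103
  have h105 : ∀ u < 15645, (fun u => chkFix tab mwordsA u) u = true := ext_range (a := 15496) (len := 149) h104 m2_104
  have h106 : ∀ u < 15794, (fun u => chkFix tab mwordsA u) u = true := ext_range (a := 15645) (len := 149) h105 m2_105
  have h107 : ∀ u < 15943, (fun u => chkFix tab mwordsA u) u = true := ext_range (a := 15794) (len := 149) h106 m2_106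
  have h108 : ∀ u < 16092, (fun u => chkFix tab mwordsA u) u = true := ext_range (a := 15943) (len := 149) h107 m2_107
  have h109 : ∀ u < 16241, (fun u => chkFix tab mwordsA u) u = true := ext_range (a := 16092) (len := 149) h108 m2_108
  have h110 : ∀ u < 16390, (fun u => chkFix tab mwordsA u) u = true := ext_range (a := 16241) (len := 149) h109 m2_109
  have h111 : ∀ u < 16539, (fun u => chkFix tab mwordsA u) u = true := ext_range (a := 16390) (len := 149) h110 m2_110
  have h112 : ∀ u < 16688, (fun u => chkFix tab mwordsA u) u = true := ext_range (a := 16539) (len := 149) h111 m2_111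
  have h113 : ∀ u < 16837, (fun u => chkFix tab mwordsA u) u = true := ext_range (a := 16688) (len := 149) h112 m2_112
  have h114 : ∀ u < 16986, (fun u => chkFix tab mwordsA u) u = true := ext_range (a := 16837) (len := 149) h113 m2_113
  have h115 : ∀ u < 17135, (fun u => chkFix tab mwordsA u) u = true := ext_range (a := 16986) (len := 149) h114 m2_114
  have h116 : ∀ u < 17284, (fun u => chkFix tab mwordsA u) u = true := ext_range (a := 17135) (len := 149) h115 m2_115
  have h117 : ∀ u < 17433, (fun u => chkFix tab mwordsA u) u = true := ext_range (a := 17284) (len := 149) h116 m2_116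
  have h118 : ∀ u < 17582, (fun u => chkFix tab mwordsA u) u = true := ext_range (a := 17433) (len := 149) h117 m2_117
  have h119 : ∀ u < 17731, (fun u => chkFix tab mwordsA u) u = true := ext_range (a := 17582) (len := 149) h118 m2_118
  have h120 : ∀ u < 17880, (fun u => chkFix tab mwordsA u) u = true := ext_range (a := 17731) (len := 149) h119 m2_119
  have h121 : ∀ u < 18029, (fun u => chkFix tab mwordsA u) u = true := ext_range (a := 17880) (len := 149) h120 m2_120
  have h122 : ∀ u < 18178, (fun u => chkFix tab mwordsA u) u = true := ext_range (a := 18029) (len := 149) h121 m2_121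
  have h123 : ∀ u < 18327, (fun u => chkFix tab mwordsA u) u = true := ext_range (a := 18178) (len := 149) h122 m2_122
  have h124 : ∀ u < 18476, (fun u => chkFix tab mwordsA u) u = true := ext_range (a := 18327) (len := 149) h123 m2_123
  have h125 : ∀ u < 18625, (fun u => chkFix tab mwordsA u) u = true := ext_range (a := 18476) (len := 149) h124 m2_124
  have h126 : ∀ u < 18774, (fun u => chkFix tab mwordsA u) u = true := ext_range (a := 18625) (len := 149) h125 m2_125
  have h127 : ∀ u < 18923, (fun u => chkFix tab mwordsA u) u = true := ext_range (a := 18774) (len := 149) h126 m2_126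
  have h128 : ∀ u < 19072, (fun u => chkFix tab mwordsA u) u = true := ext_range (a := 18923) (len := 149) h127 m2_127
  have h129 : ∀ u < 19221, (fun u => chkFix tab mwordsA u) u = true := ext_range (a := 19072) (len := 149) h128 m2_128
  have h130 : ∀ u < 19370, (fun u => chkFix tab mwordsA u) u = true := ext_range (a := 19221) (len := 149) h129 m2_129
  have h131 : ∀ u < 19519, (fun u => chkFix tab mwordsA u) u = true := ext_range (a := 19370) (len := 149) h130 m2_130
  have h132 : ∀ u < 19668, (fun u => chkFix tab mwordsA u) u = true := ext_range (a := 19519) (len := 149) h131 m2_131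
  have h133 : ∀ u < 19817, (fun u => chkFix tab mwordsA u) u = true := ext_range (a := 19668) (len := 149) h132 m2_132
  have h134 : ∀ u < 19966, (fun u => chkFix tab mwordsA u) u = true := ext_range (a := 19817) (len := 149) h133 m2_133
  have h135 : ∀ u < 20115, (fun u => chkFix tab mwordsA u) u = true := ext_range (a := 19966) (len := 149) h134 m2_134
  have h136 : ∀ u < 20264, (fun u => chkFix tab mwordsA u) u = true := ext_range (a := 20115) (len := 149) h135 m2_135
  have h137 : ∀ u < 20413, (fun u => chkFix tab mwordsA u) u = true := ext_range (a := 20264) (len := 149) h136 m2_136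
  have h138 : ∀ u < 20562, (fun u => chkFix tab mwordsA u) u = true := ext_range (a := 20413) (len := 149) h137 m2_137
  have h139 : ∀ u < 20711, (fun u => chkFix tab mwordsA u) u = true := ext_range (a := 20562) (len := 149) h138 m2_138
  have h140 : ∀ u < 20860, (fun u => chkFix tab mwordsA u) u = true := ext_range (a := 20711) (len := 149) h139 m2_139
  have h141 : ∀ u < 21009, (fun u => chkFix tab mwordsA u) u = true := ext_range (a := 20860) (len := 149) h140 m2_140
  have h142 : ∀ u < 21158, (fun u => chkFix tab mwordsA u) u = true := ext_range (a := 21009) (len := 149) h141 m2_141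
  have h143 : ∀ u < 21307, (fun u => chkFix tab mwordsA u) u = true := ext_range (a := 21158) (len := 149) h142 m2_142
  have h144 : ∀ u < 21456, (fun u => chkFix tab mwordsA u) u = true := ext_range (a := 21307) (len := 149) h143 m2_143
  have h145 : ∀ u < 21605, (fun u => chkFix tab mwordsA u) u = true := ext_range (a := 21456) (len := 149) h144 m2_144
  have h146 : ∀ u < 21754, (fun u => chkFix tab mwordsA u) u = true := ext_range (a := 21605) (len := 149) h145 m2_145
  have h147 : ∀ u < 21903, (fun u => chkFix tab mwordsA u) u = true := ext_range (a := 21754) (len := 149) h146 m2_146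
  have h148 : ∀ u < 22052, (fun u => chkFix tab mwordsA u) u = true := ext_range (a := 21903) (len := 149) h147 m2_147
  have h149 : ∀ u < 22201, (fun u => chkFix tab mwordsA u) u = true := ext_range (a := 22052) (len := 149) h148 m2_148
  have h150 : ∀ u < 22350, (fun u => chkFix tab mwordsA u) u = true := ext_range (a := 22201) (len := 149) h149 m2_149
  have h151 : ∀ u < 22499, (fun u => chkFix tab mwordsA u) u = true := ext_range (a := 22350) (len := 149) h150 m2_150
  have h152 : ∀ u < 22648, (fun u => chkFix tab mwordsA u) u = true := ext_range (a := 22499) (len := 149) h151 m2_151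
  have h153 : ∀ u < 22797, (fun u => chkFix tab mwordsA u) u = true := ext_range (a := 22648) (len := 149) h152 m2_152
  have h154 : ∀ u < 22946, (fun u => chkFix tab mwordsA u) u = true := ext_range (a := 22797) (len := 149) h153 m2_153
  have h155 : ∀ u < 23095, (fun u => chkFix tab mwordsA u) u = true := ext_range (a := 22946) (len := 149) h154 m2_154
  have h156 : ∀ u < 23244, (fun u => chkFix tab mwordsA u) u = true := ext_range (a := 23095) (len := 149) h155 m2_155
  have h157 : ∀ u < 23393, (fun u => chkFix tab mwordsA u) u = true := ext_range (a := 23244) (len := 149) h156 m2_156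
  have h158 : ∀ u < 23542, (fun u => chkFix tab mwordsA u) u = true := ext_range (a := 23393) (len := 149) h157 m2_157
  have h159 : ∀ u < 23691, (fun u => chkFix tab mwordsA u) u = true := ext_range (a := 23542) (len := 149) h158 m2_158
  have h160 : ∀ u < 23840, (fun u => chkFix tab mwordsA u) u = true := ext_range (a := 23691) (len := 149) h159 m2_159
  have h161 : ∀ u < 23989, (fun u => chkFix tab mwordsA u) u = true := ext_range (a := 23840) (len := 149) h160 m2_160
  have h162 : ∀ u < 24138, (fun u => chkFix tab mwordsA u) u = true := ext_range (a := 23989) (len := 149) h161 m2_161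
  have h163 : ∀ u < 24287, (fun u => chkFix tab mwordsA u) u = true := ext_range (a := 24138) (len := 149) h162 m2_162
  have h164 : ∀ u < 24436, (fun u => chkFix tab mwordsA u) u = true := ext_range (a := 24287) (len := 149) h163 m2_163
  have h165 : ∀ u < 24585, (fun u => chkFix tab mwordsA u) u = true := ext_range (a := 24436) (len := 149) h164 m2_164
  have h166 : ∀ u < 24734, (fun u => chkFix tab mwordsA u) u = true := ext_range (a := 24585) (len := 149) h165 m2_165
  have h167 : ∀ u < 24883, (fun u => chkFix tab mwordsA u) u = true := ext_range (a := 24734) (len := 149) h166 m2_166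
  have h168 : ∀ u < 25032, (fun u => chkFix tab mwordsA u) u = true := ext_range (a := 24883) (len := 149) h167 m2_167
  have h169 : ∀ u < 25181, (fun u => chkFix tab mwordsA u) u = true := ext_range (a := 25032) (len := 149) h168 m2_168
  have h170 : ∀ u < 25330, (fun u => chkFix tab mwordsA u) u = true := ext_range (a := 25181) (len := 149) h169 m2_169
  have h171 : ∀ u < 25479, (fun u => chkFix tab mwordsA u) u = true := ext_range (a := 25330) (len := 149) h170 m2_170
  have h172 : ∀ u < 25628, (fun u => chkFix tab mwordsA u) u = true := ext_range (a := 25479) (len := 149) h171 m2_171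
  have h173 : ∀ u < 25777, (fun u => chkFix tab mwordsA u) u = true := ext_range (a := 25628) (len := 149) h172 m2_172
  have h174 : ∀ u < 25926, (fun u => chkFix tab mwordsA u) u = true := ext_range (a := 25777) (len := 149) h173 m2_173
  have h175 : ∀ u < 26068, (fun u => chkFix tab mwordsA u) u = true := ext_range (a := 25926) (len := 142) h174 m2_174
  exact h175

theorem hE : ∀ c < 6, ∀ u < 26106, chkE tab c u = true := by
  intro c hc
  interval_cases c
  · exact hE0
  · exact hE1
  · exact hE2
  · exact hE3
  · exact hE4
  · exact hE5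

end Cfsg.Agent.Helper9.TCData.ONC1
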