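import Cfsg.Agent.Lib.Helper9.TCData.ONC1.Main

set_option autoImplicit false
set_option maxRecDepth 1000000

namespace Cfsg.Agent.Helper9.TCData.ONC1
open Cfsg.Agent.Helper9.TC2

theorem m2_7 : allRange 1043 149 (fun u => chkFix tab mwordsA u) = true := by decide +kernel

theorem m2_8 : allRange 1192 149 (fun u => chkFix tab mwordsA u) = true := by decide +kernel

theorem m2_9 : allRange 1341 149 (fun u => chkFix tab mwordsA u) = true := by decide +kernel

theorem m2_10 : allRange 1490 149 (fun u => chkFix tab mwordsA u) = true := by decide +kernel

theorem m2_11 : allRange 1639 149 (fun u => chkFix tab mwordsA u) = true := by decide +kernel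

theorem m2_12 : allRange 1788 149 (fun u => chkFix tab mwordsA u) = true := by decide +kernel

theorem m2_13 : allRange 1937 149 (fun u => chkFix tab mwordsA u) = true := by decide +kernel

theorem m2_14 : allRange 2086 149 (fun u => chkFix tab mwordsA u) = true := by decide +kernel


end Cfsg.Agent.Helper9.TCData.ONC1
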