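import Cfsg.Agent.Lib.Helper9.TCData.ONC1.Main

set_option autoImplicit false
set_option maxRecDepth 1000000

namespace Cfsg.Agent.Helper9.TCData.ONC1
open Cfsg.Agent.Helper9.TC2

theorem m2_103 : allRange 15347 149 (fun u => chkFix tab mwordsA u) = true := by decide +kernel

theorem m2_104 : allRange 15496 149 (fun u => chkFix tab mwordsA u) = true := by decide +kernel

theorem m2_105 : allRange 15645 149 (fun u => chkFix tab mwordsA u) = true := by decide +kernel

theorem m2_106 : allRange 15794 149 (fun u => chkFix tab mwordsA u) = true := by decide +kernel

theorem m2_107 : allRange 15943 149 (fun u => chkFix tab mwordsA u) = true := by decide +kernel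

theorem m2_108 : allRange 16092 149 (fun u => chkFix tab mwordsA u) = true := by decide +kernel

theorem m2_109 : allRange 16241 149 (fun u => chkFix tab mwordsA u) = true := by decide +kernel

theorem m2_110 : allRange 16390 149 (fun u => chkFix tab mwordsA u) = true := by decide +kernel


end Cfsg.Agent.Helper9.TCData.ONC1
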